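import Groth.Agent.EtExtLib.Main
import Groth.Agent.CdCurveLib.PushPt
import Mathlib.FieldTheory.PurelyInseparable.Basic

/-! Invariance of torsion cohomology of proper curves under extensions of separably closed fields. -/

set_option autoImplicit false
set_option linter.unusedSectionVars false
set_option linter.style.haveILetI false
set_option backward.isDefEq.respectTransparency false
set_option backward.isDefEq.respectTransparency.types false
set_option maxHeartbeats 1000000
set_option synthInstance.maxHeartbeats 400000

universe u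

open CategoryTheory CategoryTheory.Limits AlgebraicGeometry Opposite
open Groth.Agent Groth.Agent.EtShLib

noncomputable section

namespace EtExtLib

open FEtProper (spR)

attribute [local instance] EtSliceLib.pullExact

theorem bijective_comp {A B C : Scheme.{u}} (a : A ⟶ B) (b : B ⟶ C) (c : A ⟶ C) (w : a ≫ b = c)
    (G : EtCoh.Ab C) (n : ℕ) (ha : Function.Bijective (EtCore.Hpull a ((EtCoh.pull b).obj G) n))
    (hb : Function.Bijective (EtCore.Hpull b G n)) : Function.Bijective (EtCore.Hpull c G n) := by
  have h1 : Function.Bijective (EtCore.HpullVia a b c w G n) :=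
    ((((EtCoh.HF A n).mapIso (((EtCore.pullComp a b).symm ≪≫ EtCore.pullCongr w).app G)).addCommGroupIsoToAddEquiv).bijective).comp ha
  have e : (EtCore.Hpull c G n : EtCoh.H C G n → _) = EtCore.HpullVia a b c w G n ∘ EtCore.Hpull b G n :=
    funext fun x => (via_Hpull a b c w G n x).symm
  rw [e]
  exact h1.comp hb

theorem bijective_cancel {A B C : Scheme.{u}} (a : A ⟶ B) (b : B ⟶ C) (c : A ⟶ C) (w : a ≫ b = c)
    (G : EtCoh.Ab C) (n : ℕ) (ha : Function.Bijective (EtCore.Hpull a ((EtCoh.pull b).obj G) n))
    (hc : Function.Bijective (EtCore.Hpull c G n)) : Function.Bijective (EtCore.Hpull b G n) := by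
  have h1 : Function.Bijective (EtCore.HpullVia a b c w G n) :=
    ((((EtCoh.HF A n).mapIso (((EtCore.pullComp a b).symm ≪≫ EtCore.pullCongr w).app G)).addCommGroupIsoToAddEquiv).bijective).comp ha
  have e : (EtCore.Hpull c G n : EtCoh.H C G n → _) = EtCore.HpullVia a b c w G n ∘ EtCore.Hpull b G n :=
    funext fun x => (via_Hpull a b c w G n x).symm
  exact (Function.Bijective.of_comp_iff' h1 _).1 (e ▸ hc)

theorem universalHomeo_spR (k K : Type u) [Field k] [Field K] [Algebra k K] [Algebra.IsAlgebraic k K]
    [IsPurelyInseparable k K] :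
    IsIntegralHom (spR k K) ∧ UniversallyInjective (spR k K) ∧ Surjective (spR k K) := by
  refine ⟨IsIntegralHom.SpecMap_iff.2 (algebraMap_isIntegral_iff.2 inferInstance), ?_,
    ⟨fun x => ⟨IsLocalRing.closedPoint K, Subsingleton.elim _ _⟩⟩⟩
  refine ((tfae_universallyInjective _).out 1 0).mp ?_
  intro L instL g₁ g₂ h
  replace h : Spec.map (CommRingCat.ofHom (algebraMap k K) ≫ Spec.preimage g₁) =
      Spec.map (CommRingCat.ofHom (algebraMap k K) ≫ Spec.preimage g₂) := by
    rw [Spec.map_comp, Spec.map_comp, Spec.map_preimage, Spec.map_preimage]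
    exact h
  have h2 : (Spec.preimage g₁).hom = (Spec.preimage g₂).hom :=
    @IsPurelyInseparable.injective_comp_algebraMap k K _ _ _ _ L instL.toCommRing inferInstance _ _
      (congrArg CommRingCat.Hom.hom (Spec.map_injective h))
  rw [← Spec.map_preimage g₁, ← Spec.map_preimage g₂, CommRingCat.hom_ext h2]

theorem bijective_sepClosed {k : Type u} [Field k] [IsSepClosed k] {X : Scheme.{u}}
    (f : X ⟶ Spec (CommRingCat.of k)) [IsProper f] (hdim : topologicalKrullDim X ≤ 1) (F : EtCoh.Ab X)
    (hF : EtCoh.IsTorsion F) {k' : Type u} [Field k'] [IsSepClosed k'] [Algebra k k'] (q : ℕ) :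
    Function.Bijective (EtCore.Hpull (pullback.fst f (spR k k')) F q) := by
  let kb := AlgebraicClosure k
  let kb' := AlgebraicClosure k'
  letI : Algebra kb kb' := (IsAlgClosed.lift : kb →ₐ[k] kb').toRingHom.toAlgebra
  haveI : IsScalarTower k kb kb' :=
    IsScalarTower.of_algebraMap_eq fun x => ((IsAlgClosed.lift : kb →ₐ[k] kb').commutes x).symm
  have e₁ : spR k' kb' ≫ spR k k' = spR k kb' := by
    rw [← Spec.map_comp, ← CommRingCat.ofHom_comp, ← IsScalarTower.algebraMap_eq]
  have e₂ : spR kb kb' ≫ spR k kb = spR k kb' := by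
    rw [← Spec.map_comp, ← CommRingCat.ofHom_comp, ← IsScalarTower.algebraMap_eq]
  obtain ⟨i₁, i₂, i₃⟩ := universalHomeo_spR k kb
  obtain ⟨j₁, j₂, j₃⟩ := universalHomeo_spR k' kb'
  let a := pullback.fst f (spR k kb)
  let fb := pullback.snd f (spR k kb)
  let b := pullback.fst fb (spR kb kb')
  let h := pullback.fst f (spR k k')
  let c : pullback fb (spR kb kb') ⟶ pullback f (spR k k') :=
    pullback.lift (b ≫ a) (pullback.snd _ _ ≫ spR k' kb') (by
      rw [Category.assoc, Category.assoc, e₁, ← e₂, ← Category.assoc (pullback.snd _ _), ← pullback.condition,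
        Category.assoc, pullback.condition])
  have hbig : IsPullback (b ≫ a) (pullback.snd fb (spR kb kb')) f (spR k kb') := by
    rw [← e₂]
    exact (IsPullback.of_hasPullback fb (spR kb kb')).paste_horiz (IsPullback.of_hasPullback f (spR k kb))
  have hc : IsPullback c (pullback.snd fb (spR kb kb')) (pullback.snd f (spR k k')) (spR k' kb') := by
    refine IsPullback.of_right ?_ (pullback.lift_snd _ _ _) (IsPullback.of_hasPullback f (spR k k'))
    rw [pullback.lift_fst, e₁]
    exact hbig
  haveI : IsIntegralHom a := MorphismProperty.pullback_fst _ _ i₁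
  haveI : UniversallyInjective a := MorphismProperty.pullback_fst _ _ i₂
  haveI : Surjective a := MorphismProperty.pullback_fst _ _ i₃
  haveI : IsIntegralHom c := MorphismProperty.of_isPullback hc.flip j₁
  haveI : UniversallyInjective c := MorphismProperty.of_isPullback hc.flip j₂
  haveI : Surjective c := MorphismProperty.of_isPullback hc.flip j₃
  have hdimb : topologicalKrullDim ↥(pullback f (spR k kb)) ≤ 1 :=
    (FibDimLib.topologicalKrullDim_pullback_field k kb f).trans_le hdim
  exact bijective_cancel c h (b ≫ a) (pullback.lift_fst _ _ _) F q (Groth.Agent.S0642.result c _ q)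
    (bijective_comp b a (b ≫ a) rfl F q
      (bijective_proper fb hdimb _ (CdCurveLib.isTorsion_pull_map a hF) q)
      (Groth.Agent.S0642.result a F q))

end EtExtLib

end
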