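import Groth.Agent.EtH1PBCLib.Henselian
import Groth.Agent.EtContLib.PullSys
import Groth.Agent.ConsLib.FGSystem
import Groth.Agent.FEtProperLib.Pb
import Groth.Agent.S0642
import Mathlib.RingTheory.Valuation.LocalSubring
import Mathlib.RingTheory.Jacobson.Ring

/-! Change of algebraically closed base field: the specialisation arguments. -/

set_option autoImplicit false
set_option linter.unusedSectionVars false
set_option linter.style.haveILetI false
set_option backward.isDefEq.respectTransparency false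
set_option backward.isDefEq.respectTransparency.types false
set_option maxHeartbeats 1000000
set_option synthInstance.maxHeartbeats 400000

universe u

open CategoryTheory CategoryTheory.Limits CategoryTheory.Abelian AlgebraicGeometry Opposite
open Groth.Agent.EtShLib

noncomputable section

namespace EtExtLib

open FEtProper (spR bc bc_fst)

/-! ### Transfer maps -/

theorem via_Hpull {A B C : Scheme.{u}} (a : A ⟶ B) (b : B ⟶ C) (c : A ⟶ C) (w : a ≫ b = c)
    [PreservesFiniteLimits (EtCoh.pull a)] [PreservesFiniteLimits (EtCoh.pull b)]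
    [PreservesFiniteLimits (EtCoh.pull c)] (G : EtCoh.Ab C) (n : ℕ) (x : EtCoh.H C G n) :
    EtCore.HpullVia a b c w G n (EtCore.Hpull b G n x) = EtCore.Hpull c G n x := by
  refine Eq.trans ?_ (EtContLib.hpull_comp a b c w G n x)
  rw [← EtSliceLib.pullComp_inv_eq]
  rfl

theorem Hpull_eq_zero_of_via {A B C : Scheme.{u}} (a : A ⟶ B) (b : B ⟶ C) (c : A ⟶ C) (w : a ≫ b = c)
    [PreservesFiniteLimits (EtCoh.pull a)] (G : EtCoh.Ab C) (n : ℕ)
    (x : EtCoh.H B ((EtCoh.pull b).obj G) n) (h : EtCore.HpullVia a b c w G n x = 0) :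
    EtCore.Hpull a _ n x = 0 :=
  EtContLib.Hpull_eq_zero G a b c w n x ((EtContLib.HpullVia_eq G a b c w n x).symm.trans h)

theorem Hpull_comp_eq_zero {A B C : Scheme.{u}} (a : A ⟶ B) (b : B ⟶ C) (c : A ⟶ C) (w : a ≫ b = c)
    (G : EtCoh.Ab C) (n : ℕ) (x : EtCoh.H C G n)
    [PreservesFiniteLimits (EtCoh.pull a)] [PreservesFiniteLimits (EtCoh.pull b)]
    [PreservesFiniteLimits (EtCoh.pull c)] (h : EtCore.Hpull b G n x = 0) : EtCore.Hpull c G n x = 0 := by
  rw [← via_Hpull a b c w G n x, h, map_zero]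

theorem Hpull_comp_eq_zero_iso {A B C : Scheme.{u}} (a : A ⟶ B) [IsIso a] (b : B ⟶ C) (c : A ⟶ C) (w : a ≫ b = c)
    (G : EtCoh.Ab C) (n : ℕ) (x : EtCoh.H C G n) [PreservesFiniteLimits (EtCoh.pull a)]
    [PreservesFiniteLimits (EtCoh.pull b)]
    [PreservesFiniteLimits (EtCoh.pull c)] (h : EtCore.Hpull c G n x = 0) : EtCore.Hpull b G n x = 0 := by
  have h1 := Hpull_eq_zero_of_via a b c w G n (EtCore.Hpull b G n x) (by rw [via_Hpull, h])
  exact (Groth.Agent.S0642.result a _ n).1 (h1.trans (map_zero _).symm)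

/-! ### The field as a limit of finitely generated algebras -/

variable {k : Type u} [Field k] {K : Type u} [Field K] [Algebra k K] {X : Scheme.{u}}

/-- The system of finitely generated subalgebras, over `Spec k`. -/
def sys : RichLib.LimBC.Sys (ConsLib.FGSub k K)ᵒᵖ (Spec (CommRingCat.of k)) :=
  let A := ConsLib.fgSys k K (Iso.refl (Spec (CommRingCat.of k)))
  { D := A.D
    t := fun i => spR k i.unop.1
    w := fun {i j} h => by
      show A.D.map h ≫ Spec.map _ = Spec.map _
      have := A.w h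
      simpa [A, ConsLib.fgSys] using this
    c := A.c
    hc := A.hc
    affine := fun i => by
      haveI : IsAffine (A.D.obj i) := inferInstanceAs (IsAffine (Spec (CommRingCat.of i.unop.1)))
      exact isAffineHom_of_isAffine (spR k i.unop.1)
    s := spR k K
    hs := fun i => by
      have := A.hs i
      simpa [A, ConsLib.fgSys] using this }

variable (f : X ⟶ Spec (CommRingCat.of k))

theorem pbπ_eq (i : (ConsLib.FGSub k K)ᵒᵖ) :
    RichLib.LimBC.pbπ (sys (k := k) (K := K)) f i = bc f i.unop.1.val := by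
  apply pullback.hom_ext
  · exact (RichLib.LimBC.pbπ_fst _ f i).trans (bc_fst f _).symm
  · exact (RichLib.LimBC.pbπ_snd _ f i).trans (FEtProper.bc_snd f _).symm

variable [CompactSpace X] [QuasiSeparatedSpace X]

theorem exists_stage (F : EtCoh.Ab X) (p : ℕ) (ξ : EtCoh.H (pullback f (spR k K)) ((EtCoh.pull (pullback.fst f (spR k K))).obj F) p) :
    haveI : ∀ {A B : Scheme.{u}} (g : A ⟶ B), PreservesFiniteLimits (EtCoh.pull g) := fun g => EtSliceLib.pullExact g
    ∃ (D : ConsLib.FGSub k K) (x : EtCoh.H (pullback f (spR k D.1)) ((EtCoh.pull (pullback.fst f (spR k D.1))).obj F) p),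
      EtCore.HpullVia (bc f D.1.val) (pullback.fst f (spR k D.1)) (pullback.fst f (spR k K)) (bc_fst f _) F p x = ξ := by
  haveI : ∀ {A B : Scheme.{u}} (g : A ⟶ B), PreservesFiniteLimits (EtCoh.pull g) := fun g => EtSliceLib.pullExact g
  let B := RichLib.LimBC.pb (sys (k := k) (K := K)) f
  haveI : ∀ i j (b : i ⟶ j), IsAffineHom (B.D.map b) := fun _ _ b => B.affine_map b
  haveI : ∀ i, CompactSpace (B.D.obj i) := fun i => B.compactSpace_obj i
  haveI : ∀ i, QuasiSeparatedSpace (B.D.obj i) := fun i => B.quasiSeparatedSpace_obj i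
  let t : B.D ⟶ (Functor.const _).obj X :=
    { app := fun i => B.t i
      naturality := fun i j a => (B.w a).trans (Category.comp_id _).symm }
  let ψ := EtContLib.pullPsi F t B.c B.s B.hs
  obtain ⟨j, x, hx⟩ := (EtContLib.pullPre F t).surjective ((EtCoh.pull B.s).obj F) ψ
    (fun {a b} h => EtContLib.pullPsi_compat F t B.c B.s B.hs h) B.hc (EtContLib.isLim_pullPre F t B.c B.s B.hs) p ξ
  refine ⟨j.unop, x, ?_⟩
  have h1 := (EtContLib.HpullVia_eq_psi F t B.c B.s B.hs j p x).trans hx
  have key : ∀ (g : pullback f (spR k K) ⟶ pullback f (spR k j.unop.1)) (hg : g ≫ pullback.fst _ _ = pullback.fst _ _),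
      g = RichLib.LimBC.pbπ (sys (k := k) (K := K)) f j →
      EtCore.HpullVia g (pullback.fst f (spR k j.unop.1)) (pullback.fst f (spR k K)) hg F p x = ξ := by
    rintro g hg rfl
    exact h1
  exact key _ _ (pbπ_eq f j).symm

theorem eq_zero_stage (F : EtCoh.Ab X) (p : ℕ) (x : EtCoh.H X F p) [PreservesFiniteLimits (EtCoh.pull (pullback.fst f (spR k K)))]
    (h : EtCore.Hpull (pullback.fst f (spR k K)) F p x = 0) :
    ∃ D : ConsLib.FGSub k K, @EtCore.Hpull _ _ (pullback.fst f (spR k D.1)) (EtSliceLib.pullExact _) F p x = 0 := by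
  haveI : ∀ {A B : Scheme.{u}} (g : A ⟶ B), PreservesFiniteLimits (EtCoh.pull g) := fun g => EtSliceLib.pullExact g
  let B := RichLib.LimBC.pb (sys (k := k) (K := K)) f
  haveI : ∀ i j (b : i ⟶ j), IsAffineHom (B.D.map b) := fun _ _ b => B.affine_map b
  haveI : ∀ i, CompactSpace (B.D.obj i) := fun i => B.compactSpace_obj i
  haveI : ∀ i, QuasiSeparatedSpace (B.D.obj i) := fun i => B.quasiSeparatedSpace_obj i
  let t : B.D ⟶ (Functor.const _).obj X :=
    { app := fun i => B.t i
      naturality := fun i j a => (B.w a).trans (Category.comp_id _).symm }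
  let ψ := EtContLib.pullPsi F t B.c B.s B.hs
  let i₁ : (ConsLib.FGSub k K)ᵒᵖ := op ⟨⊥, Subalgebra.fg_bot⟩
  have h1 : EtCore.HpullVia (B.c.π.app i₁) (t.app i₁) B.s (B.hs i₁) F p (EtCore.Hpull (t.app i₁) F p x) = 0 := by
    rw [via_Hpull]
    exact h
  have h2 := (EtContLib.HpullVia_eq_psi F t B.c B.s B.hs i₁ p _).symm.trans h1
  obtain ⟨l, a, ha⟩ := (EtContLib.pullPre F t).eq_zero ((EtCoh.pull B.s).obj F) ψ
    (fun {a b} h => EtContLib.pullPsi_compat F t B.c B.s B.hs h) B.hc (EtContLib.isLim_pullPre F t B.c B.s B.hs) p i₁ _ h2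
  have h3 := EtContLib.Hpull_eq_zero_of_τ F t a p _ ha
  refine ⟨l.unop, ?_⟩
  have h4 : EtCore.Hpull (t.app l) F p x = 0 := by
    refine (via_Hpull (B.D.map a) (t.app i₁) (t.app l) (B.w a) F p x).symm.trans ?_
    show ((EtCoh.HF _ p).map _) (EtCore.Hpull (B.D.map a) _ p (EtCore.Hpull (t.app i₁) F p x)) = 0
    rw [h3, map_zero]
  exact h4

/-- The section at a rational point of a stage. -/
def sect {D : Subalgebra k K} (s : D →ₐ[k] k) : X ⟶ pullback f (spR k D) :=
  pullback.lift (𝟙 X) (f ≫ Spec.map (CommRingCat.ofHom s.toRingHom)) (by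
    rw [Category.id_comp, Category.assoc, FEtProper.spec_comp]
    have : spR k k = 𝟙 _ := by
      show Spec.map (CommRingCat.ofHom (algebraMap k k)) = _
      rw [Algebra.algebraMap_self]
      exact Spec.map_id _
    rw [this, Category.comp_id])

theorem sect_fst {D : Subalgebra k K} (s : D →ₐ[k] k) : sect f s ≫ pullback.fst f (spR k D) = 𝟙 X :=
  pullback.lift_fst _ _ _

theorem exists_point [IsAlgClosed k] (D : ConsLib.FGSub k K) : Nonempty (D.1 →ₐ[k] k) := by
  haveI : Algebra.FiniteType k D.1 := ⟨(Subalgebra.fg_top _).mpr D.2⟩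
  obtain ⟨m, hm⟩ := Ideal.exists_maximal D.1
  letI := Ideal.Quotient.field m
  haveI : Algebra.FiniteType k (D.1 ⧸ m) :=
    Algebra.FiniteType.of_surjective (Ideal.Quotient.mkₐ k m) (Ideal.Quotient.mkₐ_surjective k m)
  haveI : Module.Finite k (D.1 ⧸ m) := finite_of_finite_type_of_isJacobsonRing k (D.1 ⧸ m)
  haveI : Algebra.IsAlgebraic k (D.1 ⧸ m) := Algebra.IsAlgebraic.of_finite k _
  exact ⟨(IsAlgClosed.lift : (D.1 ⧸ m) →ₐ[k] k).comp (Ideal.Quotient.mkₐ k m)⟩

/-- Injectivity of the pullback to a larger field, for any sheaf and in any degree. -/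
theorem injective_Hpull [IsAlgClosed k] (F : EtCoh.Ab X) (p : ℕ) [PreservesFiniteLimits (EtCoh.pull (pullback.fst f (spR k K)))] :
    Function.Injective (EtCore.Hpull (pullback.fst f (spR k K)) F p) := by
  haveI : ∀ {A B : Scheme.{u}} (g : A ⟶ B), PreservesFiniteLimits (EtCoh.pull g) := fun g => EtSliceLib.pullExact g
  refine (injective_iff_map_eq_zero _).2 fun x hx => ?_
  obtain ⟨D, hD⟩ := eq_zero_stage f F p x hx
  obtain ⟨s⟩ := exists_point D
  have h := Hpull_comp_eq_zero (sect f s) (pullback.fst f (spR k D.1)) (𝟙 X) (sect_fst f s) F p x hD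
  exact (Groth.Agent.S0642.result (𝟙 X) F p).1 (h.trans (map_zero _).symm)

/-- A valuation ring of an algebraically closed field is henselian. -/
theorem henselian_valuationSubring [IsAlgClosed K] (V : ValuationSubring K) : HenselianLocalRing V where
  is_henselian g hg a₀ h₁ _ := by
    classical
    have hs := (IsAlgClosed.splits (g.map (algebraMap V K))).eq_prod_roots_of_monic (hg.map _)
    have hmem : ∀ r ∈ (g.map (algebraMap V K)).roots, r ∈ V := fun r hr => by
      have hr' := (Polynomial.mem_roots (hg.map (algebraMap V K)).ne_zero).1 hr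
      rw [Polynomial.IsRoot, Polynomial.eval_map] at hr'
      obtain ⟨v, hv⟩ := IsIntegrallyClosed.isIntegral_iff.1 (⟨g, hg, hr'⟩ : IsIntegral V r)
      rw [← hv]
      exact v.2
    let R : Multiset V := (g.map (algebraMap V K)).roots.attach.map fun r => ⟨r.1, hmem r.1 r.2⟩
    have hR : g = (R.map fun r => Polynomial.X - Polynomial.C r).prod := by
      refine Polynomial.map_injective (algebraMap V K) Subtype.val_injective ?_
      rw [Polynomial.map_multiset_prod, Multiset.map_map]
      conv_lhs => rw [hs]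
      simp only [R, Multiset.map_map, Function.comp_def, Polynomial.map_sub, Polynomial.map_X, Polynomial.map_C]
      exact congrArg Multiset.prod (Multiset.attach_map_val' _ (fun r : K => Polynomial.X - Polynomial.C r)).symm
    rw [hR, Polynomial.eval_multiset_prod, Multiset.map_map] at h₁
    obtain ⟨r, hr, hrm⟩ := (IsLocalRing.maximalIdeal.isMaximal V).isPrime.multiset_prod_mem_iff_exists_mem _ |>.1 h₁
    obtain ⟨r', hr', rfl⟩ := Multiset.mem_map.1 hr
    simp only [Function.comp_apply, Polynomial.eval_sub, Polynomial.eval_X, Polynomial.eval_C] at hrm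
    refine ⟨r', ?_, by simpa using neg_mem hrm⟩
    rw [hR, Polynomial.IsRoot, Polynomial.eval_multiset_prod, Multiset.map_map]
    exact Multiset.prod_eq_zero (Multiset.mem_map.2 ⟨r', hr', by simp⟩)

theorem exists_valuation (D : Subalgebra k K) (s : D →ₐ[k] k) :
    ∃ (V : ValuationSubring K) (_ : Algebra k V) (ι : D →ₐ[k] V) (v : V →ₐ[k] K),
      v.comp ι = D.val ∧ ∀ d, s d = 0 → ι d ∈ IsLocalRing.maximalIdeal V := by
  have hne : RingHom.ker s.toRingHom ≠ ⊤ := RingHom.ker_ne_top _
  obtain ⟨V, hle, hsub⟩ := Ideal.image_subset_nonunits_valuationSubring (A := D.toSubring) (RingHom.ker s.toRingHom) hne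
  letI : Algebra k V := ((algebraMap k K).codRestrict V.toSubring fun c => hle (D.algebraMap_mem c)).toAlgebra
  refine ⟨V, inferInstance,
    { toFun := fun d => ⟨d.1, hle d.2⟩, map_one' := rfl, map_mul' := fun _ _ => rfl, map_zero' := rfl,
      map_add' := fun _ _ => rfl, commutes' := fun c => rfl },
    { toRingHom := V.subtype, commutes' := fun c => rfl }, rfl, fun d hd => ?_⟩
  exact (ValuationSubring.coe_mem_nonunits_iff (a := (⟨d.1, hle d.2⟩ : V))).1 (hsub ⟨d, hd, rfl⟩)

/-- Degree one surjectivity for proper schemes. -/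
theorem surjective_Hpull_one [IsAlgClosed k] [IsAlgClosed K] [IsProper f] (F : EtCoh.Ab X)
    (hF : LC (fun M : AddCommGrpCat.{u + 1} => Finite M) F) [PreservesFiniteLimits (EtCoh.pull (pullback.fst f (spR k K)))] :
    Function.Surjective (EtCore.Hpull (pullback.fst f (spR k K)) F 1) := by
  intro ξ
  haveI : ∀ {A B : Scheme.{u}} (g : A ⟶ B), PreservesFiniteLimits (EtCoh.pull g) := fun g => EtSliceLib.pullExact g
  obtain ⟨D, xD, rfl⟩ := exists_stage f F 1 ξ
  obtain ⟨s⟩ := exists_point D
  let σ := sect f s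
  let fD := pullback.fst f (spR k D.1)
  obtain ⟨x, hx⟩ := (Groth.Agent.S0642.result (𝟙 X) F 1).2 (EtCore.HpullVia σ fD (𝟙 X) (sect_fst f s) F 1 xD)
  refine ⟨x, ?_⟩
  let d := xD - EtCore.Hpull fD F 1 x
  have hd : EtCore.Hpull σ _ 1 d = 0 := by
    refine Hpull_eq_zero_of_via σ fD (𝟙 X) (sect_fst f s) F 1 d ?_
    rw [map_sub, via_Hpull, sub_eq_zero]
    exact hx.symm
  obtain ⟨V, _, ι, v, hv, hmax⟩ := exists_valuation D.1 s
  haveI := henselian_valuationSubring V
  let b := bc f ι
  haveI : IsProper (pullback.snd f (spR k V)) := MorphismProperty.pullback_snd _ _ ‹IsProper f›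
  let i₀ := EtH1PBC.i₀ V (pullback.snd f (spR k V))
  have hring : ((Ideal.Quotient.mk (IsLocalRing.maximalIdeal V)).comp (algebraMap k V)).comp s.toRingHom =
      (Ideal.Quotient.mk (IsLocalRing.maximalIdeal V)).comp ι.toRingHom := by
    refine RingHom.ext fun a => ?_
    rw [RingHom.comp_apply, RingHom.comp_apply, RingHom.comp_apply, Ideal.Quotient.mk_eq_mk_iff_sub_mem]
    have h0 := hmax (algebraMap k D.1 (s a) - a) (by rw [map_sub, AlgHom.commutes, Algebra.algebraMap_self_apply, sub_self])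
    rw [map_sub, AlgHom.commutes] at h0
    exact h0
  have hfac : i₀ ≫ b = (i₀ ≫ pullback.fst f (spR k V)) ≫ σ := by
    apply pullback.hom_ext
    · rw [Category.assoc, Category.assoc, bc_fst, sect_fst, Category.comp_id]
    · show _ = _
      rw [Category.assoc, Category.assoc, FEtProper.bc_snd, show σ ≫ pullback.snd f (spR k D.1) =
        f ≫ Spec.map (CommRingCat.ofHom s.toRingHom) from pullback.lift_snd _ _ _, pullback.condition_assoc]
      rw [Category.assoc, ← Category.assoc (pullback.fst f (spR k V)), pullback.condition, Category.assoc,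
        pullback.condition_assoc]
      refine congrArg _ ?_
      simp only [← Spec.map_comp, ← CommRingCat.ofHom_comp]
      exact congrArg (fun r => Spec.map (CommRingCat.ofHom r)) hring.symm
  have hdb : EtCore.Hpull b _ 1 d = 0 := by
    have h1 : EtCore.Hpull (i₀ ≫ b) _ 1 d = 0 := by
      have h2 := Hpull_comp_eq_zero (i₀ ≫ pullback.fst f (spR k V)) σ ((i₀ ≫ pullback.fst f (spR k V)) ≫ σ) rfl _ 1 d hd
      have key : ∀ g, g = i₀ ≫ b → EtCore.Hpull g _ 1 d = 0 → EtCore.Hpull (i₀ ≫ b) _ 1 d = 0 := by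
        rintro g rfl h; exact h
      exact key _ hfac.symm h2
    have h3 := Hpull_eq_zero_of_via i₀ b (i₀ ≫ b) rfl _ 1 (EtCore.Hpull b _ 1 d) (by rw [via_Hpull, h1])
    exact (EtH1PBC.bijective_Hpull_one V (pullback.snd f (spR k V)) _ (LC.pull (f := b) (LC.pull (f := fD) hF))).1
      (h3.trans (map_zero _).symm)
  have hπ : bc f v ≫ b = bc f D.1.val := by rw [← FEtProper.bc_comp, hv]
  have hfinal := Hpull_comp_eq_zero (bc f v) b (bc f D.1.val) hπ _ 1 d hdb
  have hvia : EtCore.HpullVia (bc f D.1.val) fD (pullback.fst f (spR k K)) (bc_fst f _) F 1 d = 0 := by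
    show ((EtCoh.HF _ 1).map _) (EtCore.Hpull (bc f D.1.val) _ 1 d) = 0
    rw [hfinal, map_zero]
  rw [map_sub, via_Hpull, sub_eq_zero] at hvia
  exact hvia.symm

end EtExtLib

end
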