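import Groth.Agent.EtExtLib.Spec
import Groth.Agent.EtLamFinLib.Main
import Groth.Agent.ConsFiniteLib.Proper
import Groth.Agent.AlbLib.AlgClosed
import Groth.Agent.FibDimLib.FieldExt

/-! Constant coefficients on normal curves: change of algebraically closed base field. -/

set_option autoImplicit false
set_option linter.unusedSectionVars false
set_option linter.style.haveILetI false
set_option backward.isDefEq.respectTransparency false
set_option backward.isDefEq.respectTransparency.types false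
set_option maxHeartbeats 1000000
set_option synthInstance.maxHeartbeats 400000

universe u

open CategoryTheory CategoryTheory.Limits CategoryTheory.Abelian AlgebraicGeometry Opposite
open Groth.Agent.EtShLib

noncomputable section

namespace EtExtLib

open FEtProper (spR)

theorem bijective_of_injective_card {A B : Type*} [AddCommGroup A] [AddCommGroup B] (f : A →+ B)
    (hf : Function.Injective f) [Finite B] (h : Nat.card A = Nat.card B) : Function.Bijective f := by
  haveI : Finite A := Finite.of_injective f hf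
  exact (Nat.bijective_iff_injective_and_card _).2 ⟨hf, h⟩

theorem card_iso {Z : Scheme.{u}} {F G : EtCoh.Ab Z} (e : F ≅ G) (q : ℕ) :
    Nat.card (EtCoh.H Z F q) = Nat.card (EtCoh.H Z G q) :=
  Nat.card_congr (((EtCoh.HF Z q).mapIso e).addCommGroupIsoToAddEquiv.toEquiv : EtCoh.H Z F q ≃ EtCoh.H Z G q)

theorem card_pull_iso {Z W : Scheme.{u}} (e : Z ⟶ W) [IsIso e] (M : Type) [AddCommGroup M] (q : ℕ) :
    Nat.card (EtCoh.H Z (EtCoh.const Z M) q) = Nat.card (EtCoh.H W (EtCoh.const W M) q) := by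
  haveI : PreservesFiniteLimits (EtCoh.pull e) := EtSliceLib.pullExact e
  rw [← card_iso (EtCore.pullConst e M) q]
  exact (Nat.card_congr (Equiv.ofBijective _ (Groth.Agent.S0642.result e (EtCoh.const W M) q))).symm

theorem natCard_fin_zmod {m n : ℕ} : Nat.card (Fin m → ZMod n) = n ^ m := by
  rw [Nat.card_fun, Nat.card_zmod, Nat.card_fin]

/-- The cardinality of `H⁰`. -/
theorem card_H0_const (Z : Scheme.{u}) [IrreducibleSpace Z] (M : Type) [AddCommGroup M] [Finite M] :
    Nat.card (EtCoh.H Z (EtCoh.const Z M) 0) = Nat.card M := by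
  let hT := EtCore.topIsTerminal Z
  let A := AddCommGrpCat.of (ULift.{u + 1} M)
  have h := ConstUnitLib.isCst_const (X := Z) A
  obtain ⟨x₀⟩ : Nonempty (EtCoh.top Z).left := ⟨genericPoint Z⟩
  haveI : PreconnectedSpace (EtCoh.top Z).left := inferInstanceAs (PreconnectedSpace Z)
  refine (Nat.card_congr (Sheaf.H.equiv₀ (EtCoh.const Z M) (EtCore.topIsTerminal Z)).toEquiv).trans ?_
  refine Eq.trans (Nat.card_eq_of_bijective (fun s => ConstUnitLib.val (hT := hT) h s x₀) ⟨fun s t e => ?_, fun a => ?_⟩)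
    (Nat.card_congr Equiv.ulift)
  · refine ConstUnitLib.val_ext (hT := hT) h fun y => ?_
    rw [(ConstUnitLib.isLocallyConstant_val (hT := hT) h s).apply_eq_of_preconnectedSpace y x₀,
      (ConstUnitLib.isLocallyConstant_val (hT := hT) h t).apply_eq_of_preconnectedSpace y x₀]
    exact e
  · exact exists_val_eq Z M a x₀
where
  exists_val_eq (Z : Scheme.{u}) (M : Type) [AddCommGroup M] (a : ULift.{u + 1} M) (x₀ : (EtCoh.top Z).left) :
      ∃ s, ConstUnitLib.val (hT := EtCore.topIsTerminal Z) (ConstUnitLib.isCst_const (X := Z) (AddCommGrpCat.of (ULift.{u + 1} M))) s x₀ = a := by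
    exact ⟨ConstUnitLib.cSec (EtCore.topIsTerminal Z)
        ((toSheafify Z.smallEtaleTopology ((Functor.const (Z.Etale)ᵒᵖ).obj (AddCommGrpCat.of (ULift.{u + 1} M)))).app
          (op (EtCoh.top Z))) (EtCoh.top Z) a,
      ConstUnitLib.val_cSec (hT := EtCore.topIsTerminal Z)
        (ConstUnitLib.isCst_const (X := Z) (AddCommGrpCat.of (ULift.{u + 1} M))) a x₀⟩

section OneSide

variable (L : Type u) [Field L] [IsAlgClosed L] (Xc : Scheme.{u}) (sc : Xc ⟶ Spec (CommRingCat.of L))
  [IsProper sc] [Smooth sc] [IsIntegral Xc] (hdim : topologicalKrullDim Xc = 1)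
  {n : ℕ} (hn : (n : L) ≠ 0) [NeZero n] {Z : Scheme.{u}} (j : Z ⟶ Xc) [IsOpenImmersion j] [Nonempty Z]

/-- The genus, for the given structure map. -/
def gen' : ℕ := letI : Xc.Over (Spec (CommRingCat.of L)) := ⟨sc⟩; Curv2.genus L Xc

include L sc hdim in
theorem finite_compl : ((Set.range j.base)ᶜ).Finite ∧ ∀ x ∉ Set.range j.base, IsClosed ({x} : Set Xc) := by
  letI : Xc.Over (Spec (CommRingCat.of L)) := ⟨sc⟩
  haveI : IsProper (Xc ↘ Spec (CommRingCat.of L)) := ‹IsProper sc›
  obtain ⟨z⟩ := ‹Nonempty Z›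
  obtain ⟨h1, h2⟩ := SerreVanLib.proper_closed_finite L hdim j.isOpenEmbedding.isOpen_range.isClosed_compl
    fun h => (h.ge (Set.mem_univ (j.base z))) ⟨z, rfl⟩
  exact ⟨h1, fun x hx => h2 x hx⟩

include L sc hdim hn in
/-- Cardinalities of the cohomology of an open piece of a smooth proper curve. -/
theorem card_open :
    Nat.card (EtCoh.H Z (EtCoh.const Z (ZMod n)) 1) =
        n ^ (2 * gen' L Xc sc + (Nat.card ↥((Set.range j.base)ᶜ) - 1)) ∧
      Nat.card (EtCoh.H Z (EtCoh.const Z (ZMod n)) 2) = (if Nat.card ↥((Set.range j.base)ᶜ) = 0 then n else 1) := by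
  letI : Xc.Over (Spec (CommRingCat.of L)) := ⟨sc⟩
  haveI : IsProper (Xc ↘ Spec (CommRingCat.of L)) := ‹IsProper sc›
  haveI : Smooth (Xc ↘ Spec (CommRingCat.of L)) := ‹Smooth sc›
  obtain ⟨hfin, hcl⟩ := finite_compl L Xc sc hdim j
  let U : Xc.Opens := j.opensRange
  have hUr : (U : Set Xc) = Set.range j.base := rfl
  have hiso : ∀ q, Nat.card (EtCoh.H Z (EtCoh.const Z (ZMod n)) q) =
      Nat.card (EtCoh.H (U : Scheme.{u}) (EtCoh.const (U : Scheme.{u}) (ZMod n)) q) := fun q =>
    card_pull_iso j.isoOpensRange.hom (ZMod n) q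
  by_cases h0 : Nat.card ↥((Set.range j.base)ᶜ) = 0
  · rw [if_pos h0]
    have hU : (U : Set Xc) = Set.univ := by
      haveI := hfin.to_subtype
      have := (Finite.card_eq_zero_iff (α := ↥((Set.range j.base)ᶜ))).1 h0
      rw [hUr, Set.eq_univ_iff_forall]
      exact fun x => by_contra fun hx => this.elim' ⟨x, hx⟩
    haveI : Surjective j := ⟨Set.range_eq_univ.1 hU⟩
    haveI : IsIso j := (isIso_iff_isOpenImmersion_and_epi_base j).2 ⟨inferInstance,
      (TopCat.epi_iff_surjective _).2 j.surjective⟩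
    obtain ⟨eX⟩ := CurveH2Lib.mu_iso_const L sc n hn
    obtain ⟨e1⟩ := JacTorsLib.nonempty_H1_mu L Xc hdim n hn
    obtain ⟨e2⟩ := CurveH2Lib.nonempty_H2_mu L Xc hdim n hn
    rw [card_pull_iso j (ZMod n) 1, card_pull_iso j (ZMod n) 2, ← card_iso eX 1, ← card_iso eX 2,
      ← Nat.card_congr e1.toEquiv, Nat.card_congr e2.toEquiv, natCard_fin_zmod, Nat.card_zmod, h0, Nat.zero_sub, add_zero]
    exact ⟨rfl, rfl⟩
  · rw [if_neg h0]
    haveI : Nonempty (U : Scheme.{u}) := ⟨j.isoOpensRange.hom.base (Classical.arbitrary Z)⟩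
    haveI := hfin.to_subtype
    obtain ⟨⟨s, hs⟩⟩ : Nonempty ↥((Set.range j.base)ᶜ) := (Finite.card_pos_iff).1 (Nat.pos_of_ne_zero h0)
    obtain ⟨cU⟩ := CurveMuLib.pull_const_iso_mu L Xc U hn
    obtain ⟨e1⟩ := CurveMuLib.nonempty_H1_open L Xc hdim hn (Nat.card ↥((Set.range j.base)ᶜ) - 1) U
      (by rw [hUr]; exact hfin) (by rw [hUr]; omega)
    constructor
    · rw [hiso 1, ← card_iso (EtCore.pullConst U.ι (ZMod n)) 1, Nat.card_congr e1.toEquiv, natCard_fin_zmod]
      rfl
    · haveI : Subsingleton (EtCoh.H (U : Scheme.{u}) (EtCoh.mu (U : Scheme.{u}) n) 2) :=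
        CurveH2Lib.subsingleton_H2_mu_open L Xc hdim U (hcl s hs) (by rw [← SetLike.mem_coe, hUr]; exact hs)
          (by rw [hUr]; exact hfin) (fun x hx => hcl x (by rw [← hUr]; exact hx)) n hn
      rw [hiso 2, ← card_iso (EtCore.pullConst U.ι (ZMod n)) 2, card_iso cU 2]
      exact Nat.card_of_subsingleton (0 : EtCoh.H (U : Scheme.{u}) (EtCoh.mu (U : Scheme.{u}) n) 2)

end OneSide

variable {k : Type u} [Field k] [IsAlgClosed k] {K : Type u} [Field K] [IsAlgClosed K] [Algebra k K]

theorem isIntegral_ext {Z : Scheme.{u}} (g : Z ⟶ Spec (CommRingCat.of k)) [LocallyOfFiniteType g] [IsIntegral Z] :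
    IsIntegral (pullback g (spR k K)) := by
  haveI : GeometricallyIntegral g :=
    haveI : LocallyOfFiniteType (Over.mk g).hom := ‹LocallyOfFiniteType g›
    haveI : IsIntegral (Over.mk g).left := ‹IsIntegral Z›
    AlbLib.geometricallyIntegral_of_isIntegral (Over.mk g)
  haveI : Flat g := by
    haveI : Subsingleton ↥(Spec (CommRingCat.of k)) := inferInstanceAs (Subsingleton (PrimeSpectrum k))
    infer_instance
  haveI : IsLocallyNoetherian (Spec (CommRingCat.of K)) := inferInstance
  infer_instance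

theorem card_compl_ext {Z Xc : Scheme.{u}} (sc : Xc ⟶ Spec (CommRingCat.of k)) [IsSeparated sc] [LocallyOfFiniteType sc]
    (g : Z ⟶ Spec (CommRingCat.of k)) (j : Z ⟶ Xc) (hj : j ≫ sc = g)
    (hcl : ∀ x ∉ Set.range j.base, IsClosed ({x} : Set Xc)) :
    ∃ jK : pullback g (spR k K) ⟶ pullback sc (spR k K), IsPullback jK (pullback.fst g (spR k K)) (pullback.fst sc (spR k K)) j ∧
      Nat.card ↥((Set.range jK.base)ᶜ) = Nat.card ↥((Set.range j.base)ᶜ) := by
  let jK : pullback g (spR k K) ⟶ pullback sc (spR k K) :=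
    pullback.lift (pullback.fst g _ ≫ j) (pullback.snd g _) (by rw [Category.assoc, hj, pullback.condition])
  have hP : IsPullback jK (pullback.fst g (spR k K)) (pullback.fst sc (spR k K)) j := by
    refine (IsPullback.of_bot ?_ (pullback.lift_fst _ _ _).symm (IsPullback.of_hasPullback sc (spR k K))).flip
    rw [pullback.lift_snd, hj]
    exact IsPullback.of_hasPullback g (spR k K)
  refine ⟨jK, hP, ?_⟩
  have hr : (Set.range jK.base)ᶜ = (pullback.fst sc (spR k K)).base ⁻¹' (Set.range j.base)ᶜ := by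
    rw [Set.preimage_compl]
    refine congrArg compl (subset_antisymm ?_ fun z hz => ?_)
    · rintro _ ⟨a, rfl⟩
      exact ⟨(pullback.fst g (spR k K)).base a, (congrArg (fun m : pullback g (spR k K) ⟶ Xc => m.base a) hP.w).symm⟩
    · obtain ⟨y, hy⟩ := hz
      obtain ⟨a, ha, -⟩ := Scheme.exists_preimage_of_isPullback hP z y hy.symm
      exact ⟨a, ha⟩
  rw [hr]
  have huniq : ∀ x ∉ Set.range j.base, ∃! z, (pullback.fst sc (spR k K)).base z = x := by
    intro x hx
    let t := pointOfClosedPoint sc x (hcl x hx)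
    have ht : t ≫ sc = 𝟙 _ := pointOfClosedPoint_comp sc x (hcl x hx)
    let tK : Spec (CommRingCat.of K) ⟶ pullback sc (spR k K) :=
      pullback.lift (spR k K ≫ t) (𝟙 _) (by rw [Category.assoc, ht, Category.comp_id, Category.id_comp])
    have hQ : IsPullback tK (spR k K) (pullback.fst sc (spR k K)) t := by
      refine (IsPullback.of_bot ?_ (pullback.lift_fst _ _ _).symm (IsPullback.of_hasPullback sc (spR k K))).flip
      rw [pullback.lift_snd, ht]
      exact IsPullback.of_vert_isIso ⟨by simp⟩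
    have hxt : t.base default = x := pointOfClosedPoint_apply sc x (hcl x hx) _
    refine ⟨tK.base default, ?_, fun z hz => ?_⟩
    · refine Eq.trans (congrArg (fun m : Spec (CommRingCat.of K) ⟶ Xc => m.base default) hQ.w) ?_
      show t.base ((spR k K).base default) = x
      rw [Subsingleton.elim ((spR k K).base default) default, hxt]
    · obtain ⟨a, ha, -⟩ := Scheme.exists_preimage_of_isPullback hQ z default (hz.trans hxt.symm)
      rw [← ha, Subsingleton.elim a default]
  refine Nat.card_eq_of_bijective (fun z => ⟨(pullback.fst sc (spR k K)).base z.1, z.2⟩)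
    ⟨fun z w h => ?_, fun x => ?_⟩
  · exact Subtype.ext ((huniq _ z.2).unique rfl (congrArg Subtype.val h).symm)
  · obtain ⟨z, hz, -⟩ := huniq x.1 x.2
    exact ⟨⟨z, by rw [Set.mem_preimage, hz]; exact x.2⟩, Subtype.ext hz⟩

theorem smooth_completion {Z : Scheme.{u}} [IsIntegral Z] (g : Z ⟶ Spec (CommRingCat.of k)) [IsSeparated g]
    [LocallyOfFiniteType g] [QuasiCompact g] (hnor : Pi1.IsNormalScheme Z) (hdim : topologicalKrullDim Z = 1) :
    ∃ (Xc : Scheme.{u}) (sc : Xc ⟶ Spec (CommRingCat.of k)) (j : Z ⟶ Xc) (_ : IsOpenImmersion j) (_ : IsProper sc)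
      (_ : Smooth sc) (_ : IsIntegral Xc), j ≫ sc = g ∧ topologicalKrullDim Xc = 1 := by
  letI : Z.Over (Spec (CommRingCat.of k)) := ⟨g⟩
  haveI : LocallyOfFiniteType (Z ↘ Spec (CommRingCat.of k)) := ‹LocallyOfFiniteType g›
  haveI : QuasiCompact (Z ↘ Spec (CommRingCat.of k)) := ‹QuasiCompact g›
  haveI : IsSeparated (Z ↘ Spec (CommRingCat.of k)) := ‹IsSeparated g›
  have hst : ∀ x : Z, IsClosed ({x} : Set Z) → ringKrullDim (Z.presheaf.stalk x) = 1 := fun x hx =>
    MultiPtLib.ringKrullDim_stalk_closed hdim.le (fun T hT => by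
      rw [irreducibleComponents_eq_singleton] at hT
      rw [Set.mem_singleton_iff.1 hT]
      exact ((Homeomorph.Set.univ Z).isHomeomorph.topologicalKrullDim_eq _).trans hdim) hx
  obtain ⟨Xc, sc, j, hj, hdense, hjs, hP, hnc, -⟩ := NormCurveComplLib.exists_completion (k := k) Z hst hnor
  haveI := hj
  haveI := hP
  haveI : IrreducibleSpace Xc := by
    haveI : PreirreducibleSpace Xc := by
      refine ⟨?_⟩
      have h1 : IsPreirreducible (Set.range j.base) := by
        rw [← Set.image_univ]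
        exact (IrreducibleSpace.isIrreducible_univ Z).2.image _ j.continuous.continuousOn
      rw [← hdense.closure_eq]
      exact h1.closure
    exact { toNonempty := ⟨j.base (genericPoint Z)⟩ }
  haveI : IsReduced Xc := by
    haveI : ∀ x : Xc, _root_.IsReduced (Xc.presheaf.stalk x) := fun x => by
      haveI := (hnc x).1
      infer_instance
    exact isReduced_of_isReduced_stalk Xc
  haveI : IsIntegral Xc := isIntegral_of_irreducibleSpace_of_isReduced Xc
  have hdimc : topologicalKrullDim Xc = 1 := by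
    rw [← VarDimLib.dim_open_eq sc j.opensRange ⟨_, genericPoint Z, rfl⟩, ← hdim]
    exact ((j.isOpenEmbedding.isEmbedding.toHomeomorph).isHomeomorph.topologicalKrullDim_eq _).symm
  haveI : IsLocallyNoetherian Xc := LocallyOfFiniteType.isLocallyNoetherian sc
  haveI : Smooth sc := CurveH0Lib.smooth_of_regular k _ fun x => by
    haveI := (hnc x).1
    haveI := (hnc x).2
    exact MiscFlat6.isRegularLocalRing_of_normal_dim_le_one _ ((MiscFlat6.ringKrullDim_stalk_le Xc x).trans hdimc.le)
  exact ⟨Xc, sc, j, hj, hP, inferInstance, inferInstance, hjs, hdimc⟩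

theorem LC_const (Z : Scheme.{u}) (M : Type) [AddCommGroup M] [Finite M] :
    LC (fun N : AddCommGrpCat.{u + 1} => Finite N) (EtCoh.const Z M) := fun x =>
  ⟨EtCoh.top Z, x, _, cstUnit Z _, rfl, (inferInstance : Finite (ULift.{u + 1} M)),
    isCst_cstUnit (X := Z) (A := AddCommGrpCat.{u + 1}) _⟩

theorem killed_const (Z : Scheme.{u}) (n : ℕ) : n • 𝟙 (EtCoh.const Z (ZMod n)) = 0 :=
  CdOneLib.nsmul_id_const n

/-- Bijectivity for constant coefficients of prime order on a normal integral curve. -/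
theorem bijective_const_prime {Z : Scheme.{u}} [IsIntegral Z] (g : Z ⟶ Spec (CommRingCat.of k)) [IsSeparated g]
    [LocallyOfFiniteType g] [QuasiCompact g] (hnor : Pi1.IsNormalScheme Z) (hdim : topologicalKrullDim Z ≤ 1)
    (l : ℕ) [Fact l.Prime] (hl : (l : k) ≠ 0 ∨ IsProper g)
    [PreservesFiniteLimits (EtCoh.pull (pullback.fst g (spR k K)))] (q : ℕ) :
    Function.Bijective (EtCore.Hpull (pullback.fst g (spR k K)) (EtCoh.const Z (ZMod l)) q) := by
  haveI : CompactSpace Z := QuasiCompact.compactSpace_of_compactSpace g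
  haveI : QuasiSeparatedSpace Z := quasiSeparatedSpace_of_quasiSeparated g
  haveI : NeZero l := ⟨(Fact.out : l.Prime).ne_zero⟩
  let ZK := pullback g (spR k K)
  let gK : ZK ⟶ Spec (CommRingCat.of K) := pullback.snd g (spR k K)
  haveI : IsIntegral ZK := isIntegral_ext g
  haveI : LocallyOfFiniteType gK := MorphismProperty.pullback_snd _ _ ‹LocallyOfFiniteType g›
  haveI : QuasiCompact gK := MorphismProperty.pullback_snd _ _ ‹QuasiCompact g›
  haveI : IsSeparated gK := MorphismProperty.pullback_snd _ _ ‹IsSeparated g›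
  have hdimK : topologicalKrullDim ZK ≤ 1 := (FibDimLib.topologicalKrullDim_pullback_field k K g).trans_le hdim
  let e := (EtCoh.HF ZK q).mapIso (EtCore.pullConst (pullback.fst g (spR k K)) (ZMod l))
  let F := e.addCommGroupIsoToAddEquiv
  have hinj := injective_Hpull g (EtCoh.const Z (ZMod l)) q (K := K)
  suffices h : Nat.card (EtCoh.H Z (EtCoh.const Z (ZMod l)) q) = Nat.card (EtCoh.H ZK (EtCoh.const ZK (ZMod l)) q) ∧
      Finite (EtCoh.H ZK (EtCoh.const ZK (ZMod l)) q) by
    haveI := h.2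
    haveI : Finite (EtCoh.H ZK ((EtCoh.pull (pullback.fst g (spR k K))).obj (EtCoh.const Z (ZMod l))) q) :=
      ConsFiniteLib.finite_H_iso (EtCore.pullConst _ (ZMod l)).symm q h.2
    exact bijective_of_injective_card _ hinj (h.1.trans (card_iso (EtCore.pullConst _ (ZMod l)) q).symm)
  have hz : ∀ {Y : Scheme.{u}}, Subsingleton (EtCoh.H Y (EtCoh.const Y (ZMod l)) q) →
      Nat.card (EtCoh.H Y (EtCoh.const Y (ZMod l)) q) = 1 := fun {Y} h =>
    Nat.card_of_subsingleton (0 : EtCoh.H Y (EtCoh.const Y (ZMod l)) q)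
  have hboth : Subsingleton (EtCoh.H Z (EtCoh.const Z (ZMod l)) q) → Subsingleton (EtCoh.H ZK (EtCoh.const ZK (ZMod l)) q) →
      Nat.card (EtCoh.H Z (EtCoh.const Z (ZMod l)) q) = Nat.card (EtCoh.H ZK (EtCoh.const ZK (ZMod l)) q) ∧
      Finite (EtCoh.H ZK (EtCoh.const ZK (ZMod l)) q) := fun h1 h2 => ⟨(hz h1).trans (hz h2).symm, Finite.of_subsingleton⟩
  rcases Nat.eq_zero_or_pos q with rfl | hq
  · exact ⟨(card_H0_const Z (ZMod l)).trans (card_H0_const ZK (ZMod l)).symm, ConsFiniteLib.finite_H0_const ZK (ZMod l)⟩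
  by_cases hq3 : 3 ≤ q
  · exact hboth (Groth.Agent.EtLamFinLib.subsingleton_H_of_killed k g hdim (Fact.out : l.Prime).pos _ (killed_const Z l) q hq3)
      (Groth.Agent.EtLamFinLib.subsingleton_H_of_killed K gK hdimK (Fact.out : l.Prime).pos _ (killed_const ZK l) q hq3)
  by_cases h0 : topologicalKrullDim Z ≤ 0
  · exact hboth (ConsFiniteLib.subsingleton_H_point k g h0 _ q hq)
      (ConsFiniteLib.subsingleton_H_point K gK ((FibDimLib.topologicalKrullDim_pullback_field k K g).trans_le h0) _ q hq)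
  have hd1 : topologicalKrullDim Z = 1 := by
    refine le_antisymm hdim ?_
    revert h0
    rcases topologicalKrullDim Z with _ | _ | a
    · exact fun h => absurd bot_le h
    · exact fun _ => le_top
    · intro h
      have ha : a ≠ 0 := fun e => h (by rw [e]; exact le_rfl)
      exact WithBot.coe_le_coe.2 ((Nat.cast_one (R := ℕ∞)).ge.trans (Nat.cast_le.2 (Nat.one_le_iff_ne_zero.2 ha)))
  by_cases hlk : (l : k) = 0
  · haveI : IsProper g := hl.resolve_left (not_not_intro hlk)
    haveI : IsProper gK := MorphismProperty.pullback_snd _ _ ‹IsProper g›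
    haveI : CharP k l := (CharP.ringChar_of_prime_eq_zero (Fact.out : l.Prime) hlk) ▸ ringChar.charP k
    haveI : CharP K l := charP_of_injective_algebraMap (algebraMap k K).injective l
    interval_cases q
    · haveI := AsCohLib.finite_H l gK 1
      refine ⟨?_, ‹_›⟩
      rw [← card_iso (EtCore.pullConst (pullback.fst g (spR k K)) (ZMod l)) 1]
      exact Nat.card_congr (Equiv.ofBijective _ ⟨hinj, surjective_Hpull_one g _ (LC_const Z (ZMod l))⟩)
    · exact hboth (AsCohLib.subsingleton_above_dim l g 1 hdim 1 le_rfl)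
        (AsCohLib.subsingleton_above_dim l gK 1 hdimK 1 le_rfl)
  have hlK : (l : K) ≠ 0 := fun h => hlk ((map_eq_zero (algebraMap k K)).1 (by rw [map_natCast]; exact h))
  obtain ⟨Xc, sc, j, hj, hsc, hsm, hint, hjs, hdc⟩ := smooth_completion g hnor hd1
  haveI := hj; haveI := hsc; haveI := hsm; haveI := hint
  haveI : Nonempty Z := ⟨genericPoint Z⟩
  haveI : CompactSpace Xc := QuasiCompact.compactSpace_of_compactSpace sc
  haveI : QuasiSeparatedSpace Xc := quasiSeparatedSpace_of_quasiSeparated sc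
  let scK := pullback.snd sc (spR k K)
  haveI : IsIntegral (pullback sc (spR k K)) := isIntegral_ext sc
  haveI : IsProper scK := MorphismProperty.pullback_snd _ _ hsc
  haveI : Smooth scK := MorphismProperty.pullback_snd _ _ hsm
  have hdcK : topologicalKrullDim ↥(pullback sc (spR k K)) = 1 := (FibDimLib.topologicalKrullDim_pullback_field k K sc).trans hdc
  obtain ⟨jK, hP, hcard⟩ := card_compl_ext (K := K) sc g j hjs (finite_compl k Xc sc hdc j).2
  haveI : IsOpenImmersion jK := MorphismProperty.of_isPullback hP.flip hj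
  have hgen : gen' K (pullback sc (spR k K)) scK = gen' k Xc sc := by
    haveI : Nonempty Xc := ⟨genericPoint Xc⟩
    haveI : Nonempty ↥(pullback sc (spR k K)) := ⟨genericPoint _⟩
    haveI : PreservesFiniteLimits (EtCoh.pull (pullback.fst sc (spR k K))) := EtSliceLib.pullExact _
    have h1 := (card_open k Xc sc hdc hlk (𝟙 Xc)).1
    have h2 := (card_open K (pullback sc (spR k K)) scK hdcK hlK (𝟙 _)).1
    have h3 : Nat.card (EtCoh.H Xc (EtCoh.const Xc (ZMod l)) 1) =
        Nat.card (EtCoh.H (pullback sc (spR k K)) (EtCoh.const (pullback sc (spR k K)) (ZMod l)) 1) :=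
      (Nat.card_congr (Equiv.ofBijective _ ⟨injective_Hpull sc _ 1 (K := K),
        surjective_Hpull_one sc _ (LC_const Xc (ZMod l))⟩)).trans (card_iso (EtCore.pullConst _ (ZMod l)) 1)
    have hempty : ∀ (Y : Scheme.{u}), Nat.card ↥((Set.range (𝟙 Y : Y ⟶ Y).base)ᶜ) = 0 := fun Y => by
      haveI : IsEmpty ↥((Set.range (𝟙 Y : Y ⟶ Y).base)ᶜ) := ⟨fun y => y.2 ⟨y.1, rfl⟩⟩
      exact Nat.card_of_isEmpty
    rw [hempty, Nat.zero_sub, add_zero] at h1 h2
    have := Nat.pow_right_injective (Fact.out : l.Prime).two_le ((h1.symm.trans h3).trans h2)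
    omega
  obtain ⟨hc1, hc2⟩ := card_open k Xc sc hdc hlk j
  obtain ⟨hd1', hd2⟩ := card_open K (pullback sc (spR k K)) scK hdcK hlK jK
  rw [hcard, hgen] at hd1'
  rw [hcard] at hd2
  interval_cases q
  · exact ⟨hc1.trans hd1'.symm, Nat.finite_of_card_ne_zero (by rw [hd1']; exact pow_ne_zero _ (NeZero.ne l))⟩
  · exact ⟨hc2.trans hd2.symm, Nat.finite_of_card_ne_zero (by rw [hd2]; split <;> simp [(Fact.out : l.Prime).ne_zero])⟩

end EtExtLib

end
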