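import Groth.Agent.EtExtLib.Curve
import Groth.Agent.CovDevLib.Devissage
import Groth.Agent.CovDevLib.Lqf
import Groth.Agent.CovDevLib.Basis

/-! Torsion sheaves on curves: change of algebraically closed base field. -/

set_option autoImplicit false
set_option linter.unusedSectionVars false
set_option linter.style.haveILetI false
set_option backward.isDefEq.respectTransparency false
set_option backward.isDefEq.respectTransparency.types false
set_option maxHeartbeats 1000000
set_option synthInstance.maxHeartbeats 400000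

universe u

open CategoryTheory CategoryTheory.Limits CategoryTheory.Abelian AlgebraicGeometry Opposite
open Groth.Agent Groth.Agent.EtShLib Groth.Agent.EtCompLib DescSecLib EtSliceLib EtAcycLib

attribute [local instance] CategoryTheory.Abelian.hasFiniteBiproducts

noncomputable section

namespace EtExtLib

open FEtProper (spR)

/-- Surjectivity passes to the middle term when pullback is injective. -/
theorem surjective_middle {A B : Scheme.{u}} (h : A ⟶ B) [PreservesFiniteLimits (EtCoh.pull h)] {S : ShortComplex (EtCoh.Ab B)}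
    (hS : S.ShortExact) (q : ℕ) (hinj : ∀ (F : EtCoh.Ab B) (n : ℕ), Function.Injective (EtCore.Hpull h F n))
    (h1 : Function.Surjective (EtCore.Hpull h S.X₁ q)) (h3 : Function.Surjective (EtCore.Hpull h S.X₃ q)) :
    Function.Surjective (EtCore.Hpull h S.X₂ q) := fun y => by
  haveI := EtCore.pull_preservesFiniteColimits h
  haveI : (EtCoh.pull h).Additive := (EtCoh.pullPushAdj h).left_adjoint_additive
  obtain ⟨c, hc⟩ := h3 (y.comp (Ext.mk₀ ((EtCoh.pull h).map S.g)) (add_zero q))
  have hδ : c.comp hS.extClass rfl = 0 := hinj _ _ (by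
    rw [map_zero, EtAcycLib.Hpull_delta h hS c, hc, Ext.comp_assoc_of_second_deg_zero]
    exact (congrArg (fun t => Ext.comp y t rfl) (hS.map_of_exact (EtCoh.pull h)).comp_extClass).trans (Ext.comp_zero _ _ _ _ _))
  obtain ⟨b, hb⟩ := Ext.covariant_sequence_exact₃ _ hS c rfl hδ
  have hd : (y - EtCore.Hpull h S.X₂ q b).comp (Ext.mk₀ ((EtCoh.pull h).map S.g)) (add_zero q) = 0 := by
    refine ((Ext.mk₀ ((EtCoh.pull h).map S.g)).postcomp (EtCoh.const A ℤ) (add_zero q)).map_sub _ _ |>.trans ?_
    show y.comp (Ext.mk₀ ((EtCoh.pull h).map S.g)) (add_zero q) -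
      (EtCore.Hpull h S.X₂ q b).comp (Ext.mk₀ ((EtCoh.pull h).map S.g)) (add_zero q) = 0
    rw [← EtAcycLib.Hpull_postcomp, sub_eq_zero, ← hc]
    exact congrArg _ hb.symm
  obtain ⟨a', ha'⟩ := Ext.covariant_sequence_exact₂ _ (hS.map_of_exact (EtCoh.pull h)) _ hd
  obtain ⟨a, rfl⟩ := h1 a'
  refine ⟨b + a.comp (Ext.mk₀ S.f) (add_zero q), ?_⟩
  rw [map_add, EtAcycLib.Hpull_postcomp]
  exact (congrArg (fun z : EtCoh.H A ((EtCoh.pull h).obj S.X₂) q => EtCore.Hpull h S.X₂ q b + z) ha').trans (add_sub_cancel _ _)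

variable {k : Type u} [Field k] [IsAlgClosed k] {K : Type u} [Field K] [IsAlgClosed K] [Algebra k K]

/-- Finite constant coefficients on a normal integral curve. -/
theorem surjective_const {Z : Scheme.{u}} [IsIntegral Z] (g : Z ⟶ Spec (CommRingCat.of k)) [IsSeparated g]
    [LocallyOfFiniteType g] [QuasiCompact g] (hnor : Pi1.IsNormalScheme Z) (hdim : topologicalKrullDim Z ≤ 1)
    (d : ℕ) (hd : 0 < d) (hok : ∀ p : ℕ, p.Prime → p ∣ d → (p : k) ≠ 0 ∨ IsProper g)
    [PreservesFiniteLimits (EtCoh.pull (pullback.fst g (spR k K)))] :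
    ∀ (M : Type) [AddCommGroup M] [Finite M], (∀ x : M, d • x = 0) → ∀ q,
      Function.Surjective (EtCore.Hpull (pullback.fst g (spR k K)) (EtCoh.const Z M) q) := by
  haveI : CompactSpace Z := QuasiCompact.compactSpace_of_compactSpace g
  haveI : QuasiSeparatedSpace Z := quasiSeparatedSpace_of_quasiSeparated g
  intro M
  induction h : Nat.card M using Nat.strong_induction_on generalizing M with
  | _ N ih =>
  intro _ _ hM q
  classical
  let h' := pullback.fst g (spR k K)
  let T := constantSheaf Z.smallEtaleTopology AddCommGrpCat.{u + 1}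
  haveI : PreservesFiniteLimits T := by dsimp only [T, constantSheaf]; infer_instance
  haveI : T.Additive := Functor.additive_of_preserves_binary_products T
  haveI : PreservesFiniteColimits T :=
    haveI : PreservesColimitsOfSize.{0, 0} T := (EtCore.constAdj Z).leftAdjoint_preservesColimits
    PreservesColimitsOfSize.preservesFiniteColimits _
  by_cases hM1 : ∀ x : M, x = 0
  · intro y
    refine ⟨0, ?_⟩
    haveI : Subsingleton M := ⟨fun a b => (hM1 a).trans (hM1 b).symm⟩
    have hz : IsZero (EtCoh.const Z M) := T.map_isZero (AddCommGrpCat.isZero_of_subsingleton _)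
    haveI : (EtCoh.pull h').Additive := (EtCoh.pullPushAdj h').left_adjoint_additive
    rw [map_zero, ← Ext.comp_mk₀_id y, ((EtCoh.pull h').map_isZero hz).eq_of_src (𝟙 _) 0, Ext.mk₀_zero, Ext.comp_zero]
  push Not at hM1
  obtain ⟨x₀, hx₀⟩ := hM1
  have hord : IsOfFinAddOrder x₀ := isOfFinAddOrder_of_finite x₀
  obtain ⟨p, hp, hpd⟩ := Nat.exists_prime_and_dvd (n := addOrderOf x₀) (by rw [ne_eq, AddMonoid.addOrderOf_eq_one_iff]; exact hx₀)
  haveI := Fact.mk hp
  obtain ⟨m, hm⟩ := hpd
  let a := m • x₀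
  have hpa : p • a = 0 := by rw [smul_smul, ← hm]; exact addOrderOf_nsmul_eq_zero x₀
  have ha : a ≠ 0 := fun e => by
    have h1 : addOrderOf x₀ ∣ m := addOrderOf_dvd_of_nsmul_eq_zero e
    have hm0 : 0 < m := Nat.pos_of_ne_zero fun e => by rw [e, mul_zero] at hm; exact hord.addOrderOf_pos.ne' hm
    have := Nat.le_of_dvd hm0 h1
    rw [hm] at this
    nlinarith [hp.two_le]
  let i : ZMod p →+ M := ZMod.lift p ⟨zmultiplesHom M a, by
    show ((p : ℤ) • a) = 0
    rw [natCast_zsmul, hpa]⟩
  have hi : Function.Injective i := by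
    refine (injective_iff_map_eq_zero i).2 fun z hz => ?_
    by_contra hz0
    obtain ⟨n, rfl⟩ : ∃ n : ℕ, (n : ZMod p) = z := ⟨z.val, ZMod.natCast_zmod_val z⟩
    have h1 : n • a = 0 := by
      rw [← Int.cast_natCast (R := ZMod p) n] at hz
      simp only [i, ZMod.lift_coe] at hz
      simpa using hz
    have h2 : addOrderOf a ∣ n := addOrderOf_dvd_of_nsmul_eq_zero h1
    rw [addOrderOf_eq_prime hpa ha] at h2
    exact hz0 ((ZMod.natCast_eq_zero_iff _ _).2 h2)
  let up : ∀ {A B : Type} [AddCommGroup A] [AddCommGroup B], (A →+ B) →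
      (AddCommGrpCat.of (ULift.{u + 1} A) ⟶ AddCommGrpCat.of (ULift.{u + 1} B)) := fun f =>
    AddCommGrpCat.ofHom (AddMonoidHom.mk' (fun x => ULift.up (f x.down)) fun x y => ULift.ext _ _ (map_add f _ _))
  let π := QuotientAddGroup.mk' i.range
  let S : ShortComplex AddCommGrpCat.{u + 1} := ShortComplex.mk (up i) (up π) (by
    refine ConcreteCategory.hom_ext _ _ fun x => ULift.ext _ _ ?_
    show π (i x.down) = 0
    exact (QuotientAddGroup.eq_zero_iff _).2 ⟨_, rfl⟩)
  have hS : S.ShortExact :=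
    { exact := (ShortComplex.ab_exact_iff _).2 fun x hx => by
        obtain ⟨b, hb⟩ := (QuotientAddGroup.eq_zero_iff _).1 (congrArg ULift.down hx : π x.down = 0)
        exact ⟨ULift.up b, ULift.ext _ _ hb⟩
      mono_f := (AddCommGrpCat.mono_iff_injective _).2 fun x y h => ULift.ext _ _ (hi (congrArg ULift.down h))
      epi_g := (AddCommGrpCat.epi_iff_surjective _).2 fun y => by
        obtain ⟨z, hz⟩ := QuotientAddGroup.mk'_surjective i.range y.down
        exact ⟨ULift.up z, ULift.ext _ _ hz⟩ }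
  have hpdvd : p ∣ d := (dvd_of_eq (addOrderOf_eq_prime hpa ha).symm).trans (addOrderOf_dvd_of_nsmul_eq_zero (hM a))
  refine surjective_middle h' (hS.map_of_exact T) q (fun F n => injective_Hpull g F n (K := K))
    (bijective_const_prime g hnor hdim p (hok p hp hpdvd) q).2 ?_
  have hlt : Nat.card (M ⧸ i.range) < N := by
    have h1 := AddSubgroup.card_eq_card_quotient_mul_card_addSubgroup i.range
    have h2 : Nat.card i.range = p := by
      rw [← Nat.card_congr (AddMonoidHom.ofInjective hi).toEquiv, Nat.card_zmod]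
    have h3 : 0 < Nat.card (M ⧸ i.range) := Nat.card_pos
    rw [h2, h] at h1
    nlinarith [hp.two_le]
  refine ih _ hlt (M ⧸ i.range) rfl ?_ q
  intro z
  obtain ⟨z', rfl⟩ := QuotientAddGroup.mk'_surjective i.range z
  rw [← map_nsmul, hM, map_zero]

variable {X : Scheme.{u}} (f : X ⟶ Spec (CommRingCat.of k)) [IsSeparated f] [LocallyOfFiniteType f] [QuasiCompact f]

theorem surjective_cls (hdim : topologicalKrullDim X ≤ 1) {ok : ℕ → Prop} (hok : CovDevLib.Moduli ok)
    (hgood : ∀ d, ok d → ∀ p : ℕ, p.Prime → p ∣ d → (p : k) ≠ 0 ∨ IsProper f)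
    [PreservesFiniteLimits (EtCoh.pull (pullback.fst f (spR k K)))] :
    ∀ (i : ℕ) (G : EtCoh.Ab X), CovDevLib.Cls ok G → Function.Surjective (EtCore.Hpull (pullback.fst f (spR k K)) G i) := by
  haveI : ∀ {A B : Scheme.{u}} (g : A ⟶ B), PreservesFiniteLimits (EtCoh.pull g) := fun g => EtSliceLib.pullExact g
  haveI : CompactSpace X := QuasiCompact.compactSpace_of_compactSpace f
  haveI : QuasiSeparatedSpace X := quasiSeparatedSpace_of_quasiSeparated f
  let h := pullback.fst f (spR k K)
  haveI := EtCore.pull_preservesFiniteColimits h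
  haveI : (EtCoh.pull h).IsLeftAdjoint := (EtCoh.pullPushAdj h).isLeftAdjoint
  haveI : (EtCoh.pull h).Additive := (EtCoh.pullPushAdj h).left_adjoint_additive
  intro i
  induction i using Nat.strong_induction_on with
  | _ i ih =>
  intro F hF y
  obtain ⟨hFc, d, hd, hdF⟩ := hF
  obtain ⟨m, Z, p, hp, hZ, M, iM, fM, u, hu, hh⟩ :=
    ConsFiniteLib.exists_embed_normal k f hdim ((isConstructible_iff _).2 hFc) hdF
  haveI := hp
  let P := fun j => (EtCoh.push (p j)).obj (EtCoh.const (Z j) (M j))
  have hsur : Function.Surjective (EtCore.Hpull h (⨁ P) i) := CovDevLib.surjective_biproduct (h := h) P i fun j => by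
    let p' : pullback (p j ≫ f) (spR k K) ⟶ pullback f (spR k K) :=
      pullback.lift (pullback.fst _ _ ≫ p j) (pullback.snd _ _) (by rw [Category.assoc, pullback.condition])
    have hsq : IsPullback (pullback.fst (p j ≫ f) (spR k K)) p' (p j) h :=
      IsPullback.of_bot (by rw [pullback.lift_snd]; exact IsPullback.of_hasPullback _ _) (pullback.lift_fst _ _ _).symm
        (IsPullback.of_hasPullback f (spR k K))
    exact CovDevLib.surjective_Hpull_push hsq _ i (surjective_const (p j ≫ f) (hh j).1 (hh j).2.1 d (hok.pos d hd)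
      (fun l hl hld => (hgood d hd l hl hld).imp_right fun hP => by haveI := hP; infer_instance) (M j) (hh j).2.2 i)
  have hPcls : CovDevLib.Cls ok (⨁ P) := CovDevLib.cls_biproduct hok _ fun j => by
    haveI : LocallyOfFinitePresentation (p j) := by
      haveI : IsLocallyNoetherian X := LocallyOfFiniteType.isLocallyNoetherian f
      exact LocallyOfFinitePresentation.iff_locallyOfFiniteType.2 inferInstance
    haveI : CompactSpace (Z j) := QuasiCompact.compactSpace_of_compactSpace (p j)
    haveI : QuasiSeparatedSpace (Z j) := quasiSeparatedSpace_of_quasiSeparated (p j)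
    haveI : Finite (AddCommGrpCat.of (ULift.{u + 1} (M j))) := inferInstanceAs (Finite (ULift.{u + 1} (M j)))
    refine ⟨(isConstructible_iff _).1 (Groth.Agent.S0137.result (p j) _ ((isConstructible_iff _).2 (isCons_const _))), d, hd, ?_⟩
    haveI : (EtCoh.push (p j)).Additive := { }
    haveI : (constantSheaf (Z j).smallEtaleTopology AddCommGrpCat.{u + 1}).Additive :=
      haveI : PreservesFiniteLimits (constantSheaf (Z j).smallEtaleTopology AddCommGrpCat.{u + 1}) := by
        dsimp only [constantSheaf]; infer_instance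
      Functor.additive_of_preserves_binary_products _
    have h0 : d • 𝟙 (AddCommGrpCat.of (ULift.{u + 1} (M j))) = 0 := ConcreteCategory.hom_ext _ _ fun x => by
      show AddCommGrpCat.homAddEquiv (d • 𝟙 _) x = _
      rw [map_nsmul, AddMonoidHom.nsmul_apply]
      exact ULift.ext _ _ ((hh j).2.2 x.down)
    rw [← CategoryTheory.Functor.map_id (EtCoh.push (p j)), ← CategoryTheory.Functor.map_id (constantSheaf _ _),
      ← Functor.map_nsmul, ← Functor.map_nsmul, h0, Functor.map_zero, Functor.map_zero]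
  haveI := hu
  let S := ShortComplex.mk u (cokernel.π u) (cokernel.condition u)
  have hS : S.ShortExact := { exact := ShortComplex.exact_of_g_is_cokernel _ (cokernelIsCokernel _) }
  obtain ⟨g, hg⟩ := hsur (y.comp (Ext.mk₀ ((EtCoh.pull h).map u)) (add_zero i))
  have hgq : g.comp (Ext.mk₀ (cokernel.π u)) (add_zero i) = 0 := injective_Hpull f _ i (K := K) (by
    rw [EtAcycLib.Hpull_postcomp, hg, Ext.comp_assoc_of_second_deg_zero, Ext.mk₀_comp_mk₀, ← Functor.map_comp,
      cokernel.condition, Functor.map_zero, Ext.mk₀_zero, Ext.comp_zero, map_zero])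
  obtain ⟨c, hc⟩ := Ext.covariant_sequence_exact₂ _ hS g hgq
  have hdd : (y - EtCore.Hpull h F i c).comp (Ext.mk₀ ((EtCoh.pull h).map u)) (add_zero i) = 0 := by
    refine ((Ext.mk₀ ((EtCoh.pull h).map u)).postcomp _ (add_zero i)).map_sub _ _ |>.trans ?_
    show y.comp (Ext.mk₀ ((EtCoh.pull h).map u)) (add_zero i) -
      (EtCore.Hpull h F i c).comp (Ext.mk₀ ((EtCoh.pull h).map u)) (add_zero i) = 0
    rw [← EtAcycLib.Hpull_postcomp, sub_eq_zero]
    exact hg.symm.trans (congrArg _ hc.symm)
  rcases i with _ | j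
  · haveI : Mono ((EtCoh.pull h).map u) := inferInstance
    exact ⟨c, (sub_eq_zero.1 (CovDevLib.eq_zero_of_mono_H0 _ _ hdd)).symm⟩
  · obtain ⟨c', hc'⟩ := Ext.covariant_sequence_exact₁ _ (hS.map_of_exact (EtCoh.pull h)) (n₀ := j)
      (y - EtCore.Hpull h F (j + 1) c) hdd rfl
    obtain ⟨e, rfl⟩ := ih j (Nat.lt_succ_self j) _ (CovDevLib.cls_cokernel u ⟨hFc, d, hd, hdF⟩ hPcls) c'
    refine ⟨c + e.comp hS.extClass rfl, ?_⟩
    have hδ := (EtAcycLib.Hpull_delta h hS e).trans hc'
    exact (map_add _ _ _).trans ((congrArg (_ + ·) hδ).trans (add_sub_cancel _ _))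

/-- The base change theorem for torsion sheaves on curves. -/
theorem bijective_torsion (hdim : topologicalKrullDim X ≤ 1) {ok : ℕ → Prop} (hok : CovDevLib.Moduli ok)
    (hgood : ∀ d, ok d → ∀ p : ℕ, p.Prime → p ∣ d → (p : k) ≠ 0 ∨ IsProper f)
    (F : EtCoh.Ab X) (hT : TorsionBy (fun m => 0 < m) F)
    (hmono : ∀ m : ℕ, (∀ d, ok d → d.Coprime m) → Mono (m • 𝟙 F))
    [PreservesFiniteLimits (EtCoh.pull (pullback.fst f (spR k K)))] (q : ℕ) :
    Function.Bijective (EtCore.Hpull (pullback.fst f (spR k K)) F q) := by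
  haveI : CompactSpace X := QuasiCompact.compactSpace_of_compactSpace f
  haveI : QuasiSeparatedSpace X := quasiSeparatedSpace_of_quasiSeparated f
  refine ⟨injective_Hpull f F q, fun y => ?_⟩
  let h := pullback.fst f (spR k K)
  haveI : CompactSpace ↥(pullback f (spR k K)) :=
    QuasiCompact.compactSpace_of_compactSpace (pullback.snd f (spR k K))
  haveI : QuasiSeparatedSpace ↥(pullback f (spR k K)) :=
    quasiSeparatedSpace_of_quasiSeparated (pullback.snd f (spR k K))
  haveI : (EtCoh.pull h).IsLeftAdjoint := (EtCoh.pullPushAdj h).isLeftAdjoint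
  haveI : (EtCoh.pull h).Additive := { }
  haveI := isFiltered_consOver F
  obtain ⟨hc⟩ := nonempty_isColimit_consCocone F hT
  haveI := CovDevLib.preservesColimits_H (S := pullback f (spR k K)) q (ConsOver F)
  obtain ⟨p, yp, hyp⟩ := CovDevLib.exists_rep_of_colimit (EtCoh.pull h)
    (Abelian.extFunctorObj.{u + 1} (EtCoh.const (pullback f (spR k K)) ℤ) q) hc y
  have hyp' : yp.comp (Ext.mk₀ ((EtCoh.pull h).map ((consCocone F).ι.app p))) (add_zero q) = y := hyp
  let g := (consCocone F).ι.app p
  have hG := PresOver.isCons (F := F) p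
  obtain ⟨N, hN, hNG⟩ := ConsEffaceLib.exists_nsmul_eq_zero hG
  obtain ⟨a, m, ha, hdvd, hcop⟩ := hok.split N hN
  haveI := hmono m hcop
  have hag : a • g = 0 := by
    refine (cancel_mono (m • 𝟙 F)).1 ?_
    rw [zero_comp, Preadditive.comp_nsmul, Category.comp_id, smul_smul, mul_comm m a]
    exact CovDevLib.nsmul_eq_zero_of_dvd (CovDevLib.nsmul_hom_left hNG g) hdvd
  obtain ⟨K', ι, r, -, hK, -, hout⟩ := CovDevLib.exists_part hok hG hok.one
  obtain ⟨x, hx⟩ := surjective_cls f hdim hok hgood q K' hK (yp.comp (Ext.mk₀ ((EtCoh.pull h).map r)) (add_zero q))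
  refine ⟨x.comp (Ext.mk₀ (ι ≫ g)) (add_zero q), ?_⟩
  rw [EtAcycLib.Hpull_postcomp, hx, Ext.comp_assoc_of_second_deg_zero, Ext.mk₀_comp_mk₀, ← Functor.map_comp,
    hout F g a ha hag]
  exact hyp'

end EtExtLib

end
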