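import Groth.Agent.EtExtLib.Devissage

/-! Invariance of torsion cohomology of curves under extensions of algebraically closed fields. -/

set_option autoImplicit false
set_option linter.unusedSectionVars false
set_option linter.style.haveILetI false
set_option backward.isDefEq.respectTransparency false
set_option backward.isDefEq.respectTransparency.types false
set_option maxHeartbeats 1000000
set_option synthInstance.maxHeartbeats 400000

universe u

open CategoryTheory CategoryTheory.Limits AlgebraicGeometry Opposite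
open Groth.Agent Groth.Agent.EtShLib

noncomputable section

namespace EtExtLib

theorem mono_of_torsionBy {X : Scheme.{u}} {ok : ℕ → Prop} {F : EtCoh.Ab X} (hT : TorsionBy ok F) (m : ℕ)
    (hm : ∀ d, ok d → d.Coprime m) : Mono (m • 𝟙 F) := by
  refine (mono_iff_stalks _).2 fun Ω _ _ ξ => (AddCommGrpCat.mono_iff_injective _).2 ?_
  refine (injective_iff_map_eq_zero ((stk (A := AddCommGrpCat.{u + 1}) ξ).map (m • 𝟙 F)).hom).2 fun p hp => ?_
  obtain ⟨d, hd, hdp⟩ := hT Ω ξ p
  refine CovDevLib.eq_zero_of_coprime (g := p) hdp ?_ (hm d hd)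
  obtain ⟨U, u, s, rfl⟩ := exists_germ ξ p
  rw [← map_nsmul, ← ConsEffaceLib.app_nsmul_id]
  exact (germ_natural_apply ξ (m • 𝟙 F) U u s).symm.trans hp

theorem torsionBy_of_torsionInvertible {X S : Scheme.{u}} {F : EtCoh.Ab X}
    (hF : EtPBC.IsTorsionInvertibleOn S F) : TorsionBy (fun n => IsUnit (n : Γ(S, ⊤))) F := by
  intro Ω _ _ ξ p
  obtain ⟨U, u, s, rfl⟩ := exists_germ ξ p
  obtain ⟨V, g, n, ⟨y, hy⟩, hn, he⟩ := hF U s u.pt
  haveI : AlgebraicGeometry.Etale g.left := etale_left g
  obtain ⟨l, hl, -⟩ := Scheme.exists_fac_of_etale_of_isSepClosed g.left u.hom y hy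
  let v : Fib ξ V := Fib.mk l (by
    rw [← (show g.left ≫ U.hom = V.hom from MorphismProperty.Over.w g), ← Category.assoc, hl]
    exact u.w)
  refine ⟨n, hn, ?_⟩
  rw [← (show v.map g = u from Fib.ext hl), ← germ_res_apply, ← map_nsmul, he, map_zero]

theorem natCast_ne_zero_of_isUnit {k : Type u} [Field k] {n : ℕ}
    (h : IsUnit (n : Γ(Spec (CommRingCat.of k), ⊤))) : (n : k) ≠ 0 := by
  have h1 := h.map (Scheme.ΓSpecIso (CommRingCat.of k)).hom.hom
  rw [map_natCast] at h1
  exact h1.ne_zero

variable {k : Type u} [Field k] [IsAlgClosed k] {X : Scheme.{u}} (f : X ⟶ Spec (CommRingCat.of k))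
  [IsSeparated f] [LocallyOfFiniteType f] [QuasiCompact f]

theorem bijective_invertible (hdim : topologicalKrullDim X ≤ 1) (F : EtCoh.Ab X) (hF : EtCoh.IsTorsion F)
    (hFt : EtPBC.IsTorsionInvertibleOn (Spec (CommRingCat.of k)) F)
    {K : Type u} [Field K] [IsAlgClosed K] [Algebra k K]
    [PreservesFiniteLimits (EtCoh.pull (pullback.fst f (FEtProper.spR k K)))] (q : ℕ) :
    Function.Bijective (EtCore.Hpull (pullback.fst f (FEtProper.spR k K)) F q) := by
  refine bijective_torsion f hdim (CovDevLib.moduli_primesIn {l | (l : k) ≠ 0})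
    (fun d hd p hp hpd => Or.inl (hd.2 p hp hpd)) F (torsionBy_of_isTorsion hF)
    (fun m hm => mono_of_torsionBy (torsionBy_of_torsionInvertible hFt) m fun d hd => hm d ?_) q
  have h0 := natCast_ne_zero_of_isUnit hd
  refine ⟨Nat.pos_of_ne_zero fun e => h0 (by rw [e, Nat.cast_zero]), fun p _ hpd => ?_⟩
  obtain ⟨c, rfl⟩ := hpd
  exact fun e => h0 (by rw [Nat.cast_mul, show (p : k) = 0 from e, zero_mul])

theorem bijective_proper [IsProper f] (hdim : topologicalKrullDim X ≤ 1) (F : EtCoh.Ab X)
    (hF : EtCoh.IsTorsion F)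
    {K : Type u} [Field K] [IsAlgClosed K] [Algebra k K]
    [PreservesFiniteLimits (EtCoh.pull (pullback.fst f (FEtProper.spR k K)))] (q : ℕ) :
    Function.Bijective (EtCore.Hpull (pullback.fst f (FEtProper.spR k K)) F q) := by
  refine bijective_torsion f hdim CovDevLib.moduli_pos (fun _ _ _ _ _ => Or.inr inferInstance) F
    (torsionBy_of_isTorsion hF) (fun m hm => ?_) q
  obtain rfl : m = 1 := by
    rcases Nat.eq_zero_or_pos m with rfl | h0
    · exact absurd (hm 2 two_pos) (by decide)
    · exact (Nat.coprime_self m).1 (hm m h0)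
  rw [one_nsmul]
  infer_instance

end EtExtLib

end
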